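import Cfsg.Prelude.Def_ParabolicCharacters
import Cfsg.Agent.Lib.Char.Induced
import Cfsg.Agent.Lib.Char.Virtual
import Mathlib.GroupTheory.GroupAction.Quotient

/-! Permutation characters on coset spaces. -/

namespace CfsgLib.GLFlags

open scoped ComplexConjugate

variable {G : Type*} [Group G]

theorem fixedPointCharacter_one [Finite G] (H : Subgroup G) :
    Cfsg.fixedPointCharacter H 1 = (Nat.card (G ⧸ H) : ℂ) := by
  rw [Cfsg.fixedPointCharacter]
  congr 1
  exact Nat.card_congr (Equiv.subtypeUnivEquiv fun x => by simp [MulAction.mem_fixedBy])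

theorem fixedPointCharacter_eq_indFun [Fintype G] (H : Subgroup G) :
    Cfsg.fixedPointCharacter H = Cfsg.indFun H (1 : H → ℂ) := by
  classical
  funext g
  rw [CfsgLib.Char.indFun_eq_sum_transversal H (1 : H → ℂ) (fun _ _ => rfl), Cfsg.fixedPointCharacter,
    Nat.card_eq_fintype_card, Fintype.card_subtype, Finset.natCast_card_filter]
  refine Finset.sum_congr rfl fun i _ => ?_
  have key : i.out⁻¹ * g * i.out ∈ H ↔ g • i = i := by
    conv_rhs => rw [← QuotientGroup.out_eq' i]
    rw [MulAction.Quotient.smul_mk, smul_eq_mul, eq_comm, QuotientGroup.eq, mul_assoc]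
  by_cases h : g • i = i
  · rw [if_pos (MulAction.mem_fixedBy.2 h), CfsgLib.Char.extendByZero_apply_mem _ _ (key.2 h)]
    rfl
  · rw [if_neg (fun h' => h (MulAction.mem_fixedBy.1 h')),
      CfsgLib.Char.extendByZero_of_notMem _ _ (fun h' => h (key.1 h'))]

theorem isCharacter_fixedPointCharacter [Finite G] (H : Subgroup G) :
    Cfsg.IsCharacter G (Cfsg.fixedPointCharacter H) := by
  cases nonempty_fintype G
  rw [fixedPointCharacter_eq_indFun]
  exact CfsgLib.Char.IsCharacter.indFun _ CfsgLib.Char.isCharacter_one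

/-- Orbit counting on pairs of cosets. -/
theorem sum_fixedPointCharacter_mul [Fintype G] (H K : Subgroup G) :
    ∑ g : G, Cfsg.fixedPointCharacter H g * Cfsg.fixedPointCharacter K g =
      (Nat.card G : ℂ) * Nat.card (MulAction.orbitRel.Quotient G ((G ⧸ H) × (G ⧸ K))) := by
  classical
  have hb := MulAction.sum_card_fixedBy_eq_card_orbits_mul_card_group G ((G ⧸ H) × (G ⧸ K))
  have hfix : ∀ g : G, Fintype.card (MulAction.fixedBy ((G ⧸ H) × (G ⧸ K)) g) =
      Nat.card (MulAction.fixedBy (G ⧸ H) g) * Nat.card (MulAction.fixedBy (G ⧸ K) g) := by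
    intro g
    rw [← Nat.card_eq_fintype_card, ← Nat.card_prod]
    exact Nat.card_congr
      { toFun := fun x => (⟨x.1.1, congrArg Prod.fst x.2⟩, ⟨x.1.2, congrArg Prod.snd x.2⟩)
        invFun := fun x => ⟨(x.1.1, x.2.1), Prod.ext x.1.2 x.2.2⟩
        left_inv := fun _ => rfl
        right_inv := fun _ => rfl }
  simp only [hfix] at hb
  rw [Nat.card_eq_fintype_card (α := G), Nat.card_eq_fintype_card, mul_comm, ← Nat.cast_mul, ← hb,
    Nat.cast_sum]
  simp [Cfsg.fixedPointCharacter]

theorem conj_fixedPointCharacter (H : Subgroup G) (g : G) :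
    conj (Cfsg.fixedPointCharacter H g) = Cfsg.fixedPointCharacter H g := by
  simp [Cfsg.fixedPointCharacter]

theorem classInner_fixedPointCharacter [Fintype G] (H K : Subgroup G) :
    Cfsg.classInner (Cfsg.fixedPointCharacter H) (Cfsg.fixedPointCharacter K) =
      (Nat.card (MulAction.orbitRel.Quotient G ((G ⧸ H) × (G ⧸ K))) : ℂ) := by
  unfold Cfsg.classInner
  simp only [conj_fixedPointCharacter]
  rw [sum_fixedPointCharacter_mul, ← mul_assoc,
    inv_mul_cancel₀ (Nat.cast_ne_zero.2 Nat.card_pos.ne'), one_mul]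

end CfsgLib.GLFlags
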