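import Mathlib.LinearAlgebra.Vandermonde
import Mathlib.Algebra.BigOperators.Fin
import Mathlib.RingTheory.MvPowerSeries.Basic
import Mathlib.SetTheory.Cardinal.Finite
import Mathlib.Data.Finsupp.SMul
import Mathlib.Data.Finsupp.Order
import Mathlib.Tactic.Ring
import Mathlib.Tactic.LinearCombination

/-! Cauchy's determinant and an alternating sum of matrix counts. -/

namespace CfsgLib.GLFlags

open Finset

/-- Cauchy's determinant `det (1 / (1 - x_i y_j))`, division free. -/
theorem det_cauchy_series {R : Type*} [CommRing R] :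
    ∀ (n : ℕ) (x y : Fin n → R) (c : Fin n → Fin n → R), (∀ i j, c i j * (1 - x i * y j) = 1) →
      (Matrix.of c).det =
        (∏ i, ∏ j ∈ Ioi i, (x j - x i)) * (∏ i, ∏ j ∈ Ioi i, (y j - y i)) * ∏ i, ∏ j, c i j := by
  intro n
  induction n with
  | zero => intro x y c _; simp
  | succ n ih =>
    intro x y c hc
    let r : Fin (n + 1) → R := Fin.cases 1 (fun i => x i.succ - x 0)
    let N : Matrix (Fin (n + 1)) (Fin (n + 1)) R :=
      Matrix.of fun i j => Fin.cases 1 (fun i' => y j * c i'.succ j) i
    let M' : Matrix (Fin (n + 1)) (Fin (n + 1)) R := Matrix.of fun i j => r i * c 0 j * N i j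
    have h1 : (Matrix.of c).det = M'.det := by
      refine Matrix.det_eq_of_forall_row_eq_smul_add_const (Fin.cases 0 (fun _ => 1)) 0 (by simp) ?_
      intro i j
      cases i using Fin.cases with
      | zero => simp [M', r, N]
      | succ i =>
        simp only [M', r, N, Matrix.of_apply, Fin.cases_succ, Fin.cases_zero]
        linear_combination c 0 j * hc i.succ j - c i.succ j * hc 0 j
    have h2 : M'.det = (∏ i, r i) * ((∏ j, c 0 j) * N.det) := by
      rw [show M' = Matrix.of fun i j => r i * (Matrix.of fun i j => c 0 j * N i j) i j by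
          ext i j; simp [M', mul_assoc], Matrix.det_mul_column, Matrix.det_mul_row]
    let N' : Matrix (Fin (n + 1)) (Fin (n + 1)) R :=
      Matrix.of fun i j => Fin.cases (N i 0) (fun j' => N i j'.succ - N i 0) j
    have h3 : N.det = N'.det := by
      rw [← Matrix.det_transpose N, ← Matrix.det_transpose N']
      refine Matrix.det_eq_of_forall_row_eq_smul_add_const (Fin.cases 0 (fun _ => 1)) 0 (by simp) ?_
      intro i j
      cases i using Fin.cases with
      | zero => simp [N']
      | succ i => simp [N']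
    have h4 : N'.det = (N'.submatrix Fin.succ Fin.succ).det := by
      rw [Matrix.det_succ_row_zero, Fin.sum_univ_succ, Finset.sum_eq_zero]
      · simp [N', N]
      · intro j _
        simp [N', N]
    have h5 : (N'.submatrix Fin.succ Fin.succ).det =
        (∏ j : Fin n, (y j.succ - y 0)) * ((∏ i : Fin n, c i.succ 0) *
          (Matrix.of fun i j : Fin n => c i.succ j.succ).det) := by
      rw [show N'.submatrix Fin.succ Fin.succ = Matrix.of fun i j => (y j.succ - y 0) *
          (Matrix.of fun i j => c i.succ 0 * (Matrix.of fun i j : Fin n => c i.succ j.succ) i j) i j by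
        ext i j
        simp only [N', N, Matrix.submatrix_apply, Matrix.of_apply, Fin.cases_succ]
        linear_combination (y 0 * c i.succ 0) * hc i.succ j.succ
          - (y j.succ * c i.succ j.succ) * hc i.succ 0,
        Matrix.det_mul_row, Matrix.det_mul_column]
    rw [h1, h2, h3, h4, h5, ih (fun i => x i.succ) (fun i => y i.succ) _ (fun i j => hc i.succ j.succ)]
    simp only [Fin.prod_univ_succ (n := n), Fin.prod_Ioi_zero, Fin.prod_Ioi_succ, r, Fin.cases_zero,
      Fin.cases_succ]
    simp only [Finset.prod_mul_distrib]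
    ring

section Series

variable {σ : Type*}

/-- The geometric series `∑ k, X^(k • d)`. -/
noncomputable def geom (d : σ →₀ ℕ) : MvPowerSeries σ ℤ :=
  fun e => Set.indicator {e | ∃ k : ℕ, e = k • d} (fun _ => (1 : ℤ)) e

theorem coeff_geom (d e : σ →₀ ℕ) [Decidable (∃ k : ℕ, e = k • d)] :
    MvPowerSeries.coeff e (geom d) = if ∃ k : ℕ, e = k • d then 1 else 0 := by
  show Set.indicator {e | ∃ k : ℕ, e = k • d} (fun _ => (1 : ℤ)) e = _
  split_ifs with h <;> simp [h]

theorem geom_mul_sub (d : σ →₀ ℕ) (hd : d ≠ 0) :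
    geom d * (1 - MvPowerSeries.monomial d 1) = 1 := by
  classical
  ext e
  rw [mul_sub, mul_one, map_sub, MvPowerSeries.coeff_mul_monomial, MvPowerSeries.coeff_one,
    coeff_geom, coeff_geom]
  by_cases he : e = 0
  · subst he
    rw [if_pos ⟨0, (zero_smul ℕ d).symm⟩, if_neg (by simpa using hd)]
    simp
  · rw [if_neg he]
    by_cases h : ∃ k : ℕ, e = k • d
    · obtain ⟨k, rfl⟩ := h
      obtain ⟨j, rfl⟩ : ∃ j, k = j + 1 := ⟨k - 1, by
        rcases Nat.eq_zero_or_pos k with rfl | hk
        · simp at he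
        · omega⟩
      rw [if_pos ⟨j + 1, rfl⟩, if_pos (by rw [succ_nsmul]; exact le_add_self),
        if_pos ⟨j, by rw [succ_nsmul, add_tsub_cancel_right]⟩]
      simp
    · rw [if_neg h]
      split_ifs with h1 h2
      · exfalso
        obtain ⟨k, hk⟩ := h2
        exact h ⟨k + 1, by rw [succ_nsmul, ← hk, tsub_add_cancel_of_le h1]⟩
      · simp
      · simp

/-- Coefficients of a product of geometric series count exponent vectors. -/
theorem coeff_prod_geom {E : Type*} [Fintype E] (d : E → σ →₀ ℕ) (hd : ∀ x, d x ≠ 0)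
    (e : σ →₀ ℕ) :
    MvPowerSeries.coeff e (∏ x, geom (d x)) = (Nat.card {M : E → ℕ // ∑ x, M x • d x = e} : ℤ) := by
  classical
  rw [MvPowerSeries.coeff_prod]
  simp only [coeff_geom, Finset.prod_boole]
  refine Eq.trans ?_ (Eq.trans (Finset.sum_boole (R := ℤ) (fun l : E →₀ (σ →₀ ℕ) =>
    ∀ x ∈ univ, ∃ k : ℕ, l x = k • d x) (Finset.finsuppAntidiag univ e)) ?_)
  · convert rfl
  norm_cast
  set S := (Finset.finsuppAntidiag univ e).filter fun l => ∀ x ∈ univ, ∃ k : ℕ, l x = k • d x
  rw [← Nat.card_eq_finsetCard S]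
  symm
  refine Nat.card_eq_of_bijective (fun M => ⟨Finsupp.equivFunOnFinite.symm (fun x => M.1 x • d x), ?_⟩)
    ⟨?_, ?_⟩
  · simp only [S, mem_filter, Finset.mem_finsuppAntidiag]
    exact ⟨⟨by simpa using M.2, by simp⟩, fun x _ => ⟨M.1 x, by simp⟩⟩
  · intro M M' h
    apply Subtype.ext
    funext x
    have h1 : M.1 x • d x = M'.1 x • d x := by
      simpa using congrArg (fun l => l.1 x) h
    obtain ⟨s, hs⟩ := Finsupp.ne_iff.1 (hd x)
    have := congrArg (fun f => f s) h1
    simp only [Finsupp.smul_apply, smul_eq_mul] at this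
    exact Nat.eq_of_mul_eq_mul_right (Nat.pos_of_ne_zero hs) this
  · rintro ⟨l, hl⟩
    simp only [S, mem_filter, Finset.mem_finsuppAntidiag] at hl
    choose k hk using fun x => hl.2 x (mem_univ x)
    refine ⟨⟨k, ?_⟩, ?_⟩
    · rw [← hl.1.1]
      exact Finset.sum_congr rfl fun x _ => (hk x).symm
    · apply Subtype.ext
      ext x : 1
      simp [hk x]

end Series

section Count

variable {n : ℕ}

/-- The number of `n × n` matrices over `ℕ` with prescribed margins. -/
noncomputable def margins (a b : Fin n → ℕ) : ℕ :=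
  Nat.card {M : Fin n × Fin n → ℕ // (∀ k, ∑ l, M (k, l) = a k) ∧ ∀ l, ∑ k, M (k, l) = b l}

/-- Pairs of exponent vectors. -/
noncomputable def expVec (a b : Fin n → ℕ) : (Fin n ⊕ Fin n) →₀ ℕ :=
  Finsupp.equivFunOnFinite.symm (Sum.elim a b)

theorem expVec_le_iff (a b α β : Fin n → ℕ) :
    expVec a b ≤ expVec α β ↔ (∀ i, a i ≤ α i) ∧ ∀ i, b i ≤ β i := by
  simp [expVec, Finsupp.le_def, Sum.forall]

theorem expVec_sub (a b α β : Fin n → ℕ) :
    expVec α β - expVec a b = expVec (fun i => α i - a i) (fun i => β i - b i) := by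
  ext (i | i) <;> simp [expVec]

theorem expVec_inj (a b α β : Fin n → ℕ) : expVec a b = expVec α β ↔ a = α ∧ b = β := by
  constructor
  · intro h
    exact ⟨funext fun i => by simpa [expVec] using DFunLike.congr_fun h (Sum.inl i),
      funext fun i => by simpa [expVec] using DFunLike.congr_fun h (Sum.inr i)⟩
  · rintro ⟨rfl, rfl⟩; rfl

/-- The edge exponent. -/
noncomputable def edge (i j : Fin n) : (Fin n ⊕ Fin n) →₀ ℕ :=
  Finsupp.single (Sum.inl i) 1 + Finsupp.single (Sum.inr j) 1

theorem edge_ne_zero (i j : Fin n) : edge i j ≠ 0 := fun h => by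
  have := DFunLike.congr_fun h (Sum.inl i)
  simp [edge] at this

theorem sum_edge (M : Fin n × Fin n → ℕ) :
    ∑ p : Fin n × Fin n, M p • edge p.1 p.2 =
      expVec (fun k => ∑ l, M (k, l)) (fun l => ∑ k, M (k, l)) := by
  ext (i | i)
  · simp [edge, expVec, Finsupp.single_apply, Fintype.sum_prod_type]
  · rw [Finsupp.finsetSum_apply, Fintype.sum_prod_type_right]
    simp [edge, expVec, Finsupp.single_apply]

theorem coeff_prod_edge (α β : Fin n → ℕ) :
    MvPowerSeries.coeff (expVec α β) (∏ p : Fin n × Fin n, geom (edge p.1 p.2)) =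
      (margins α β : ℤ) := by
  rw [coeff_prod_geom (fun p : Fin n × Fin n => edge p.1 p.2) (fun p => edge_ne_zero p.1 p.2)]
  norm_cast
  unfold margins
  apply Nat.card_congr
  refine Equiv.subtypeEquivRight fun M => ?_
  rw [sum_edge, expVec_inj, funext_iff, funext_iff]

/-- The alternating sum of margin counts collapses. -/
theorem alternating_margins (α β : Fin n → ℕ) :
    (∑ κ : Equiv.Perm (Fin n), ∑ κ' : Equiv.Perm (Fin n),
      if (∀ i, (κ i).val ≤ α i) ∧ (∀ i, (κ' i).val ≤ β i) then
        ((Equiv.Perm.sign κ : ℤ) * (Equiv.Perm.sign κ' : ℤ)) *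
          (margins (fun i => α i - (κ i).val) (fun i => β i - (κ' i).val) : ℤ) else 0) =
      ∑ s : Equiv.Perm (Fin n), if (fun i => α (s i)) = β then (Equiv.Perm.sign s : ℤ) else 0 := by
  classical
  let X : Fin n → MvPowerSeries (Fin n ⊕ Fin n) ℤ := fun i =>
    MvPowerSeries.monomial (Finsupp.single (Sum.inl i) 1) 1
  let Y : Fin n → MvPowerSeries (Fin n ⊕ Fin n) ℤ := fun i =>
    MvPowerSeries.monomial (Finsupp.single (Sum.inr i) 1) 1
  have hc : ∀ i j, geom (edge i j) * (1 - X i * Y j) = 1 := by
    intro i j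
    rw [MvPowerSeries.monomial_mul_monomial, one_mul]
    exact geom_mul_sub _ (edge_ne_zero i j)
  have hvan : ∀ (Z : Fin n → MvPowerSeries (Fin n ⊕ Fin n) ℤ),
      (∏ i, ∏ j ∈ Ioi i, (Z j - Z i)) =
        ∑ κ : Equiv.Perm (Fin n), ((Equiv.Perm.sign κ : ℤ) : MvPowerSeries (Fin n ⊕ Fin n) ℤ) *
          ∏ i, Z i ^ (κ i).val := by
    intro Z
    rw [← Matrix.det_vandermonde, ← Matrix.det_transpose, Matrix.det_apply']
    rfl
  have hmono : ∀ κ κ' : Equiv.Perm (Fin n), (∏ i, X i ^ (κ i).val) * (∏ i, Y i ^ (κ' i).val) =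
      MvPowerSeries.monomial (expVec (fun i => (κ i).val) (fun i => (κ' i).val)) 1 := by
    intro κ κ'
    simp only [X, Y, MvPowerSeries.monomial_pow, one_pow, MvPowerSeries.prod_monomial,
      Finset.prod_const_one, MvPowerSeries.monomial_mul_monomial, one_mul]
    congr 2
    ext (i | i) <;> simp [expVec, Finsupp.single_apply]
  have hdet := det_cauchy_series n X Y (fun i j => geom (edge i j)) hc
  rw [Matrix.det_apply', hvan, hvan, Finset.sum_mul_sum, Finset.sum_mul, ← Fintype.prod_prod_type'] at hdet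
  have := congrArg (MvPowerSeries.coeff (expVec α β)) hdet
  simp only [map_sum, Finset.sum_mul, Matrix.of_apply] at this
  convert this.symm using 1
  · refine Finset.sum_congr rfl fun κ _ => Finset.sum_congr rfl fun κ' _ => ?_
    rw [show ∀ a b c d e : MvPowerSeries (Fin n ⊕ Fin n) ℤ, a * b * (c * d) * e = a * c * ((b * d) * e)
      from fun a b c d e => by ring, hmono, ← Int.cast_mul,
      ← map_intCast (MvPowerSeries.C (σ := Fin n ⊕ Fin n) (R := ℤ)), MvPowerSeries.coeff_C_mul,
      MvPowerSeries.coeff_monomial_mul]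
    simp only [expVec_le_iff, expVec_sub, coeff_prod_edge, Int.cast_id, one_mul]
    split_ifs <;> simp
  · refine Finset.sum_congr rfl fun s _ => ?_
    rw [← map_intCast (MvPowerSeries.C (σ := Fin n ⊕ Fin n) (R := ℤ)), MvPowerSeries.coeff_C_mul,
      coeff_prod_geom (fun i => edge (s i) i) (fun i => edge_ne_zero _ _), Int.cast_id]
    have hsum : ∀ k : Fin n → ℕ, ∑ i, k i • edge (s i) i = expVec (fun j => k (s⁻¹ j)) k := by
      intro k
      ext (i | i)
      · simp [edge, expVec, Finsupp.single_apply, ← Equiv.eq_symm_apply]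
      · simp [edge, expVec, Finsupp.single_apply]
    simp only [hsum, expVec_inj]
    by_cases h : (fun i => α (s i)) = β
    · rw [if_pos h, Nat.card_eq_one_iff_unique.2 ⟨⟨fun a b => Subtype.ext (a.2.2.trans b.2.2.symm)⟩,
        ⟨⟨β, funext fun j => by rw [← h]; exact congrArg α (s.apply_symm_apply j), rfl⟩⟩⟩]
      · simp
    · rw [if_neg h]
      have : IsEmpty {k : Fin n → ℕ // (fun j => k (s⁻¹ j)) = α ∧ k = β} :=
        ⟨fun k => h (by
          funext i
          have ha := congrFun k.2.1 (s i)
          have hb := congrFun k.2.2 i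
          simp only [show s⁻¹ (s i) = i from s.symm_apply_apply i] at ha
          rw [← ha, hb])⟩
      simp [Nat.card_of_isEmpty]

theorem alternating_margins_strictMono (α β : Fin n → ℕ) (hα : StrictMono α) (hβ : StrictMono β) :
    (∑ s : Equiv.Perm (Fin n), if (fun i => α (s i)) = β then (Equiv.Perm.sign s : ℤ) else 0) =
      if α = β then 1 else 0 := by
  classical
  have key : ∀ s : Equiv.Perm (Fin n), (fun i => α (s i)) = β → s = 1 := by
    intro s h
    have hs : StrictMono (s : Fin n → Fin n) := fun a b hab => hα.lt_iff_lt.1 (by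
      rw [show α (s a) = β a from congrFun h a, show α (s b) = β b from congrFun h b]
      exact hβ hab)
    have := (Finset.orderEmbOfFin_unique (s := (univ : Finset (Fin n))) (Finset.card_fin n)
      (fun x => Finset.mem_univ _) hs).trans
      (Finset.orderEmbOfFin_unique (s := (univ : Finset (Fin n))) (Finset.card_fin n)
        (f := id) (fun x => Finset.mem_univ _) strictMono_id).symm
    exact Equiv.ext fun i => congrFun this i
  rw [Finset.sum_eq_single (1 : Equiv.Perm (Fin n))]
  · simp
  · intro s _ hs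
    rw [if_neg fun h => hs (key s h)]
  · simp

end Count

end CfsgLib.GLFlags
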