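import Cfsg.Agent.Lib.GLFlags.Label
import Mathlib.LinearAlgebra.Matrix.GeneralLinearGroup.Card
import Mathlib.LinearAlgebra.Matrix.Reindex
import Mathlib.Data.Nat.Choose.Basic
import Mathlib.GroupTheory.Index
import Mathlib.Tactic.Ring
import Mathlib.Tactic.Linarith

/-! The index of a parabolic subgroup of `GL n q`. -/

namespace CfsgLib.GLFlags

open Matrix Finset

variable {n : ℕ} {F : Type*} [Field F]

/-- The q-factorial `∏_{j<r} (1 + q + ⋯ + q^j)`. -/
def qFact (q r : ℕ) : ℕ := ∏ j ∈ range r, ∑ l ∈ range (j + 1), q ^ l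

theorem qFact_pos (q r : ℕ) : 0 < qFact q r :=
  Finset.prod_pos fun j _ => Finset.sum_pos' (fun _ _ => Nat.zero_le _) ⟨0, by simp⟩

theorem pow_sub_one_eq (q k : ℕ) (hq : 1 ≤ q) : q ^ k - 1 = (q - 1) * ∑ l ∈ range k, q ^ l := by
  induction k with
  | zero => simp
  | succ k ih =>
    rw [Finset.sum_range_succ, mul_add, ← ih, pow_succ]
    have h1 : 1 ≤ q ^ k := Nat.one_le_pow _ _ hq
    have h2 : q ^ k * q = (q - 1) * q ^ k + q ^ k := by
      obtain ⟨r, rfl⟩ := Nat.exists_eq_add_of_le hq
      simp only [Nat.add_sub_cancel_left]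
      ring
    omega

theorem choose_two_succ (m : ℕ) : (m + 1).choose 2 = m + m.choose 2 := by
  rw [Nat.choose_succ_succ, Nat.choose_one_right]

theorem prod_pow_sub (q m : ℕ) (hq : 1 ≤ q) :
    ∏ i : Fin m, (q ^ m - q ^ (i : ℕ)) = q ^ m.choose 2 * (q - 1) ^ m * qFact q m := by
  induction m with
  | zero => simp [qFact]
  | succ m ih =>
    rw [Fin.prod_univ_succ]
    have h : ∀ i : Fin m, q ^ (m + 1) - q ^ ((i.succ : Fin (m + 1)) : ℕ) = q * (q ^ m - q ^ (i : ℕ)) := by
      intro i
      rw [Fin.val_succ, pow_succ', pow_succ', Nat.mul_sub]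
    simp only [h, Fin.val_zero, pow_zero, Finset.prod_mul_distrib, Finset.prod_const,
      Finset.card_univ, Fintype.card_fin, ih]
    rw [pow_sub_one_eq q (m + 1) hq, choose_two_succ]
    unfold qFact
    rw [Finset.prod_range_succ, pow_add, pow_succ (q - 1)]
    ring

theorem card_gl [Fintype F] (m : ℕ) :
    Nat.card (GL (Fin m) F) = Fintype.card F ^ m.choose 2 * (Fintype.card F - 1) ^ m *
      qFact (Fintype.card F) m := by
  rw [Matrix.card_GL_field, prod_pow_sub _ _ Fintype.card_pos]

theorem card_gl' [Fintype F] {α : Type*} [Fintype α] [DecidableEq α] (m : ℕ) (h : Fintype.card α = m) :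
    Nat.card (GL α F) = Fintype.card F ^ m.choose 2 * (Fintype.card F - 1) ^ m *
      qFact (Fintype.card F) m := by
  rw [← card_gl (F := F) m]
  exact Nat.card_congr
    (Units.mapEquiv (Matrix.reindexAlgEquiv F F (Fintype.equivFinOfCardEq h)).toMulEquiv).toEquiv

section Parabolic

variable (b : Fin n → Fin n)

/-- Block triangular matrices with invertible diagonal blocks. -/
noncomputable def blockEquiv :
    {g : GL (Fin n) F // (g : Matrix (Fin n) (Fin n) F).BlockTriangular b} ≃
      (∀ k : Fin n, GL {i // b i = k} F) × ({p : Fin n × Fin n // b p.1 < b p.2} → F) := by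
  classical
  let mk : (∀ k : Fin n, GL {i // b i = k} F) → ({p : Fin n × Fin n // b p.1 < b p.2} → F) →
      Matrix (Fin n) (Fin n) F := fun D E =>
    Matrix.of fun i j => if h : b i < b j then E ⟨(i, j), h⟩ else
      if h' : b i = b j then ((D (b j)).val : Matrix {x // b x = b j} {x // b x = b j} F) ⟨i, h'⟩ ⟨j, rfl⟩ else 0
  have hblock : ∀ D E k, (mk D E).toSquareBlock b k = ((D k).val : Matrix {x // b x = k} {x // b x = k} F) := by
    intro D E k
    ext ⟨i, hi⟩ ⟨j, hj⟩
    subst hj
    simp [mk, Matrix.toSquareBlock_def, hi]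
  have htri : ∀ D E, (mk D E).BlockTriangular b := by
    intro D E i j hij
    simp [mk, not_lt.2 hij.le, hij.ne']
  have hdet : ∀ D E, (mk D E).det ≠ 0 := by
    intro D E
    rw [(htri D E).det_fintype]
    refine Finset.prod_ne_zero_iff.2 fun k _ => ?_
    rw [hblock]
    simpa using (Matrix.GeneralLinearGroup.det (D k)).ne_zero
  have hne : ∀ g : {g : GL (Fin n) F // (g : Matrix (Fin n) (Fin n) F).BlockTriangular b}, ∀ k,
      ((g.1 : Matrix (Fin n) (Fin n) F).toSquareBlock b k).det ≠ 0 := by
    intro g k h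
    have := (Matrix.GeneralLinearGroup.det g.1).ne_zero
    apply this
    rw [Matrix.GeneralLinearGroup.val_det_apply, g.2.det_fintype]
    exact Finset.prod_eq_zero (Finset.mem_univ k) h
  exact
  { toFun := fun g => (fun k => Matrix.GeneralLinearGroup.mkOfDetNeZero _ (hne g k),
      fun p => (g.1 : Matrix (Fin n) (Fin n) F) p.1.1 p.1.2)
    invFun := fun DE => ⟨Matrix.GeneralLinearGroup.mkOfDetNeZero _ (hdet DE.1 DE.2), htri DE.1 DE.2⟩
    left_inv := fun g => by
      apply Subtype.ext; apply Units.ext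
      ext i j
      show mk _ _ i j = _
      rcases lt_trichotomy (b i) (b j) with h | h | h
      · simp [mk, h]
      · simp [mk, h, Matrix.toSquareBlock_def]
      · simp [mk, not_lt.2 h.le, h.ne']
        exact (g.2 h).symm
    right_inv := fun DE => by
      refine Prod.ext (funext fun k => Units.ext ?_) (funext fun p => ?_)
      · exact hblock DE.1 DE.2 k
      · show mk DE.1 DE.2 p.1.1 p.1.2 = _
        simp [mk, p.2] }

end Parabolic

theorem mem_parabolic_iff (μ : Fin n → ℕ) (hμ : ∑ i, μ i = n) (g : GL (Fin n) F) :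
    g ∈ Cfsg.parabolicGL n F μ ↔ (g : Matrix (Fin n) (Fin n) F).BlockTriangular (lab μ hμ) :=
  ⟨fun h _ _ hij => h hij, fun h _ _ hij => h hij⟩

theorem pair_count (μ : Fin n → ℕ) (hμ : ∑ i, μ i = n) :
    Fintype.card {p : Fin n × Fin n // lab μ hμ p.1 < lab μ hμ p.2} + ∑ k, (μ k).choose 2 =
      n.choose 2 := by
  classical
  set b := lab μ hμ with hb
  have hsw : ((univ : Finset (Fin n × Fin n)).filter fun p => b p.2 < b p.1).card =
      ((univ : Finset (Fin n × Fin n)).filter fun p => b p.1 < b p.2).card :=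
    Finset.card_equiv (Equiv.prodComm _ _) (fun p => by simp)
  have htot : ((univ : Finset (Fin n × Fin n)).filter fun p => b p.1 < b p.2).card +
      (((univ : Finset (Fin n × Fin n)).filter fun p => b p.2 < b p.1).card +
      ((univ : Finset (Fin n × Fin n)).filter fun p => b p.1 = b p.2).card) = n * n := by
    have h0 : (univ : Finset (Fin n × Fin n)).card = n * n := by simp
    rw [← h0, ← Finset.card_filter_add_card_filter_not (s := (univ : Finset (Fin n × Fin n)))
      (fun p => b p.1 < b p.2), ← Finset.card_filter_add_card_filter_not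
      (s := (univ : Finset (Fin n × Fin n)).filter fun p => ¬ b p.1 < b p.2) (fun p => b p.2 < b p.1)]
    congr 2
    · congr 1
      ext p; simp; omega
    · congr 1
      ext p; simp; omega
  have heq : ((univ : Finset (Fin n × Fin n)).filter fun p => b p.1 = b p.2).card = ∑ k, μ k * μ k := by
    rw [Finset.card_eq_sum_card_fiberwise (f := fun p : Fin n × Fin n => b p.1) (t := univ)
      (fun _ _ => Finset.mem_univ _)]
    refine Finset.sum_congr rfl fun k _ => ?_
    have hk : (univ.filter fun i => b i = k).card = μ k := card_lab_eq μ hμ k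
    rw [← hk, ← Finset.card_product]
    congr 1
    ext p
    simp only [mem_filter, mem_univ, true_and, Finset.mem_product]
    constructor
    · rintro ⟨h1, h2⟩; exact ⟨h2, h1 ▸ h2⟩
    · rintro ⟨h1, h2⟩; exact ⟨h1.trans h2.symm, h1⟩
  have hsq : ∀ m : ℕ, 2 * m.choose 2 + m = m * m := by
    intro m
    induction m with
    | zero => simp
    | succ m ih => rw [choose_two_succ]; linarith
  have hsum : 2 * (∑ k, (μ k).choose 2) + n = ∑ k, μ k * μ k := by
    calc 2 * (∑ k, (μ k).choose 2) + n = 2 * (∑ k, (μ k).choose 2) + ∑ k, μ k := by rw [hμ]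
      _ = _ := by rw [Finset.mul_sum, ← Finset.sum_add_distrib, Finset.sum_congr rfl (fun k _ => hsq (μ k))]
  have := hsq n
  rw [Fintype.card_subtype]
  omega

theorem card_parabolic [Fintype F] (μ : Fin n → ℕ) (hμ : ∑ i, μ i = n) :
    Nat.card (Cfsg.parabolicGL n F μ) = Fintype.card F ^ n.choose 2 * (Fintype.card F - 1) ^ n *
      ∏ i, qFact (Fintype.card F) (μ i) := by
  classical
  set q := Fintype.card F with hq
  have e : Cfsg.parabolicGL n F μ ≃
      {g : GL (Fin n) F // (g : Matrix (Fin n) (Fin n) F).BlockTriangular (lab μ hμ)} :=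
    Equiv.subtypeEquivRight (mem_parabolic_iff μ hμ)
  rw [Nat.card_congr (e.trans (blockEquiv (lab μ hμ))), Nat.card_prod, Nat.card_pi]
  have h1 : ∀ k : Fin n, Nat.card (GL {i // lab μ hμ i = k} F) =
      q ^ (μ k).choose 2 * (q - 1) ^ (μ k) * qFact q (μ k) := fun k =>
    card_gl' (F := F) (μ k) (by rw [Fintype.card_subtype]; exact card_lab_eq μ hμ k)
  simp only [h1, Finset.prod_mul_distrib, Finset.prod_pow_eq_pow_sum, hμ]
  rw [Nat.card_fun, Nat.card_eq_fintype_card, Nat.card_eq_fintype_card, ← hq, ← pair_count μ hμ,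
    pow_add]
  ring

/-- The index formula. -/
theorem index_parabolic [Fintype F] (μ : Fin n → ℕ) (hμ : ∑ i, μ i = n) :
    Nat.card (GL (Fin n) F ⧸ Cfsg.parabolicGL n F μ) * ∏ i, qFact (Fintype.card F) (μ i) =
      qFact (Fintype.card F) n := by
  have h := Subgroup.card_eq_card_quotient_mul_card_subgroup (Cfsg.parabolicGL n F μ)
  rw [card_gl, card_parabolic μ hμ] at h
  have hq : 1 < Fintype.card F := Fintype.one_lt_card
  have hpos : 0 < Fintype.card F ^ n.choose 2 * (Fintype.card F - 1) ^ n :=
    Nat.mul_pos (pow_pos (by omega) _) (pow_pos (by omega) _)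
  apply Nat.eq_of_mul_eq_mul_left hpos
  linarith [h]

end CfsgLib.GLFlags
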