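import Cfsg.Agent.Lib.GLFlags.Bruhat
import Cfsg.Agent.Lib.GLFlags.Index
import Cfsg.Agent.Lib.GLFlags.PermChar
import Cfsg.Agent.Lib.GLFlags.Cauchy
import Cfsg.Agent.Lib.Char.Complete
import Mathlib.Algebra.Polynomial.Monic

/-! The characters `unipotentCharacterGL`: norm, degree, irreducibility. -/

namespace CfsgLib.GLFlags

open Finset
open scoped ComplexConjugate

variable {n : ℕ}

/-- Orbits of `Sym n` on pairs of Young cosets correspond to matrices with given margins. -/
theorem card_young_orbits (a b : Fin n → ℕ) (ha : ∑ i, a i = n) (hb : ∑ i, b i = n) :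
    Nat.card (MulAction.orbitRel.Quotient (Equiv.Perm (Fin n))
        ((Equiv.Perm (Fin n) ⧸ Cfsg.youngSubgroup a) × (Equiv.Perm (Fin n) ⧸ Cfsg.youngSubgroup b))) =
      margins a b := by
  classical
  have wd : ∀ (μ : Fin n → ℕ) (hμ : ∑ i, μ i = n) (σ τ : Equiv.Perm (Fin n)),
      (fun i => lab μ hμ (σ⁻¹ i)) = (fun i => lab μ hμ (τ⁻¹ i)) ↔ σ⁻¹ * τ ∈ Cfsg.youngSubgroup μ := by
    intro μ hμ σ τ
    constructor
    · intro h i
      have := congrFun h (τ i)
      simp only [lab_eq_iff, show τ⁻¹ (τ i) = i from τ.symm_apply_apply i] at this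
      simpa [Equiv.Perm.mul_apply] using this
    · intro h
      funext i
      rw [lab_eq_iff]
      have := h (τ⁻¹ i)
      rwa [Equiv.Perm.mul_apply, show τ (τ⁻¹ i) = i from τ.apply_symm_apply i] at this
  let fA : Equiv.Perm (Fin n) ⧸ Cfsg.youngSubgroup a → Fin n → Fin n :=
    Quotient.lift (fun σ i => lab a ha (σ⁻¹ i))
      (fun σ τ h => (wd a ha σ τ).2 (QuotientGroup.leftRel_apply.1 h))
  let fB : Equiv.Perm (Fin n) ⧸ Cfsg.youngSubgroup b → Fin n → Fin n :=
    Quotient.lift (fun σ i => lab b hb (σ⁻¹ i))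
      (fun σ τ h => (wd b hb σ τ).2 (QuotientGroup.leftRel_apply.1 h))
  have fA_smul : ∀ (g : Equiv.Perm (Fin n)) x i, fA (g • x) i = fA x (g⁻¹ i) := by
    intro g x i
    induction x using QuotientGroup.induction_on with
    | H σ =>
      show lab a ha ((g * σ)⁻¹ i) = lab a ha (σ⁻¹ (g⁻¹ i))
      rw [mul_inv_rev, Equiv.Perm.mul_apply]
  have fB_smul : ∀ (g : Equiv.Perm (Fin n)) x i, fB (g • x) i = fB x (g⁻¹ i) := by
    intro g x i
    induction x using QuotientGroup.induction_on with
    | H σ =>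
      show lab b hb ((g * σ)⁻¹ i) = lab b hb (σ⁻¹ (g⁻¹ i))
      rw [mul_inv_rev, Equiv.Perm.mul_apply]
  have fA_inj : Function.Injective fA := by
    intro x y h
    induction x using QuotientGroup.induction_on with
    | H σ => induction y using QuotientGroup.induction_on with
      | H τ => exact QuotientGroup.eq.2 ((wd a ha σ τ).1 h)
  have fB_inj : Function.Injective fB := by
    intro x y h
    induction x using QuotientGroup.induction_on with
    | H σ => induction y using QuotientGroup.induction_on with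
      | H τ => exact QuotientGroup.eq.2 ((wd b hb σ τ).1 h)
  have fA_fib : ∀ x k, (univ.filter fun i => fA x i = k).card = a k := by
    intro x k
    induction x using QuotientGroup.induction_on with
    | H σ =>
      rw [← card_lab_eq a ha k]
      exact Finset.card_equiv σ⁻¹ (fun i => by
        simp only [Finset.mem_filter, Finset.mem_univ, true_and]
        exact Iff.rfl)
  have fB_fib : ∀ x k, (univ.filter fun i => fB x i = k).card = b k := by
    intro x k
    induction x using QuotientGroup.induction_on with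
    | H σ =>
      rw [← card_lab_eq b hb k]
      exact Finset.card_equiv σ⁻¹ (fun i => by
        simp only [Finset.mem_filter, Finset.mem_univ, true_and]
        exact Iff.rfl)
  let Z : ((Equiv.Perm (Fin n) ⧸ Cfsg.youngSubgroup a) × (Equiv.Perm (Fin n) ⧸ Cfsg.youngSubgroup b)) →
      Fin n → Fin n × Fin n := fun X i => (fA X.1 i, fB X.2 i)
  have hsum1 : ∀ (h : Fin n → Fin n × Fin n) k,
      ∑ l, (univ.filter fun i => h i = (k, l)).card = (univ.filter fun i => (h i).1 = k).card := by
    intro h k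
    rw [Finset.card_eq_sum_card_fiberwise (s := univ.filter fun i => (h i).1 = k)
      (f := fun i => (h i).2) (t := univ) (fun _ _ => Finset.mem_univ _)]
    refine Finset.sum_congr rfl fun l _ => congrArg Finset.card ?_
    ext i; simp [Prod.ext_iff]
  have hsum2 : ∀ (h : Fin n → Fin n × Fin n) l,
      ∑ k, (univ.filter fun i => h i = (k, l)).card = (univ.filter fun i => (h i).2 = l).card := by
    intro h l
    rw [Finset.card_eq_sum_card_fiberwise (s := univ.filter fun i => (h i).2 = l)
      (f := fun i => (h i).1) (t := univ) (fun _ _ => Finset.mem_univ _)]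
    refine Finset.sum_congr rfl fun k _ => congrArg Finset.card ?_
    ext i; simp [Prod.ext_iff, and_comm]
  let Φ : MulAction.orbitRel.Quotient (Equiv.Perm (Fin n))
        ((Equiv.Perm (Fin n) ⧸ Cfsg.youngSubgroup a) × (Equiv.Perm (Fin n) ⧸ Cfsg.youngSubgroup b)) →
      {M : Fin n × Fin n → ℕ // (∀ k, ∑ l, M (k, l) = a k) ∧ ∀ l, ∑ k, M (k, l) = b l} :=
    Quotient.lift (fun X => ⟨fun p => (univ.filter fun i => Z X i = p).card,
      fun k => (hsum1 _ k).trans (fA_fib X.1 k), fun l => (hsum2 _ l).trans (fB_fib X.2 l)⟩)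
      (fun X Y h => by
        obtain ⟨g, rfl⟩ := MulAction.orbitRel_apply.1 h
        apply Subtype.ext
        funext p
        show (univ.filter fun i => Z (g • Y) i = p).card = (univ.filter fun i => Z Y i = p).card
        refine Finset.card_equiv g⁻¹ (fun i => ?_)
        simp only [Finset.mem_filter, Finset.mem_univ, true_and, Z, Prod.smul_fst, Prod.smul_snd,
          fA_smul, fB_smul])
  unfold margins
  refine Nat.card_eq_of_bijective Φ ⟨?_, ?_⟩
  · intro X Y h
    induction X using Quotient.inductionOn' with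
    | h x => induction Y using Quotient.inductionOn' with
      | h y =>
        have h' : ∀ p, (univ.filter fun i => Z x i = p).card = (univ.filter fun i => Z y i = p).card :=
          fun p => congrFun (congrArg Subtype.val h) p
        have e : ∀ p, {i // Z y i = p} ≃ {i // Z x i = p} := fun p =>
          Fintype.equivOfCardEq (by rw [Fintype.card_subtype, Fintype.card_subtype, h' p])
        let g : Equiv.Perm (Fin n) := Equiv.ofFiberEquiv e
        have hg : ∀ i, Z x (g i) = Z y i := fun i => Equiv.ofFiberEquiv_map e i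
        apply Quotient.sound'
        rw [MulAction.orbitRel_apply]
        refine ⟨g, Prod.ext (fA_inj (funext fun i => ?_)) (fB_inj (funext fun i => ?_))⟩
        · show fA (g • y.1) i = _
          rw [fA_smul]
          have := hg (g⁻¹ i)
          rw [show g (g⁻¹ i) = i from g.apply_symm_apply i] at this
          exact (congrArg Prod.fst this).symm
        · show fB (g • y.2) i = _
          rw [fB_smul]
          have := hg (g⁻¹ i)
          rw [show g (g⁻¹ i) = i from g.apply_symm_apply i] at this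
          exact (congrArg Prod.snd this).symm
  · rintro ⟨M, hM1, hM2⟩
    have htot : Fintype.card (Σ p : Fin n × Fin n, Fin (M p)) = n := by
      simp only [Fintype.card_sigma, Fintype.card_fin, Fintype.sum_prod_type, hM1, ha]
    let e := (Fintype.equivFinOfCardEq htot).symm
    let h : Fin n → Fin n × Fin n := fun i => (e i).1
    have hfib : ∀ p, (univ.filter fun i => h i = p).card = M p := by
      intro p
      rw [← Fintype.card_subtype]
      rw [Fintype.card_congr ((e.subtypeEquiv (p := fun i => h i = p) (q := fun y => y.1 = p)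
        (fun i => Iff.rfl)).trans (Equiv.sigmaSubtype p))]
      exact Fintype.card_fin _
    have hfibA : ∀ k, Fintype.card {i // (h i).1 = k} = Fintype.card {i // lab a ha i = k} := by
      intro k
      rw [Fintype.card_subtype, Fintype.card_subtype, ← hsum1, card_lab_eq]
      simp only [hfib]
      exact hM1 k
    have hfibB : ∀ l, Fintype.card {i // (h i).2 = l} = Fintype.card {i // lab b hb i = l} := by
      intro l
      rw [Fintype.card_subtype, Fintype.card_subtype, ← hsum2, card_lab_eq]
      simp only [hfib]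
      exact hM2 l
    let eA := fun k => Fintype.equivOfCardEq (hfibA k)
    let eB := fun l => Fintype.equivOfCardEq (hfibB l)
    let gA : Equiv.Perm (Fin n) := Equiv.ofFiberEquiv eA
    let gB : Equiv.Perm (Fin n) := Equiv.ofFiberEquiv eB
    refine ⟨Quotient.mk'' (QuotientGroup.mk gA⁻¹, QuotientGroup.mk gB⁻¹), ?_⟩
    apply Subtype.ext
    funext p
    show (univ.filter fun i => Z (QuotientGroup.mk gA⁻¹, QuotientGroup.mk gB⁻¹) i = p).card = M p
    rw [← hfib p]
    congr 1
    ext i
    have hA : lab a ha (gA i) = (h i).1 := Equiv.ofFiberEquiv_map eA i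
    have hB : lab b hb (gB i) = (h i).2 := Equiv.ofFiberEquiv_map eB i
    simp only [Finset.mem_filter, Finset.mem_univ, true_and, Z]
    show (lab a ha (gA⁻¹⁻¹ i), lab b hb (gB⁻¹⁻¹ i)) = p ↔ _
    rw [inv_inv, inv_inv, hA, hB]

theorem sum_shift (ν : Fin n → ℕ) (hsum : ∑ i, ν i = n) (κ : Equiv.Perm (Fin n))
    (h : ∀ i, (κ i).val ≤ ν i + i.val) : ∑ i, (ν i + i.val - (κ i).val) = n := by
  rw [Finset.sum_tsub_distrib _ (fun i _ => h i), Finset.sum_add_distrib, hsum,
    Equiv.sum_comp κ (fun i : Fin n => i.val)]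
  omega

theorem strictMono_shift (ν : Fin n → ℕ) (hmono : Monotone ν) :
    StrictMono fun i : Fin n => ν i + i.val :=
  fun a b h => by have := hmono h.le; have : a.val < b.val := h; simp only; omega

section GLn

variable {F : Type*} [Field F]

theorem classInner_flag [Fintype (GL (Fin n) F)] (a b : Fin n → ℕ) (ha : ∑ i, a i = n) (hb : ∑ i, b i = n) :
    Cfsg.classInner (Cfsg.fixedPointCharacter (Cfsg.parabolicGL n F a))
      (Cfsg.fixedPointCharacter (Cfsg.parabolicGL n F b)) = (margins a b : ℂ) := by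
  rw [classInner_fixedPointCharacter, ← card_flag_orbits, card_young_orbits a b ha hb]

theorem unipotent_eq_sum (ν : Fin n → ℕ) :
    Cfsg.unipotentCharacterGL n F ν = ∑ κ : Equiv.Perm (Fin n),
      (if ∀ i : Fin n, (κ i).val ≤ ν i + i.val then
        ((Equiv.Perm.sign κ : ℤ) : ℂ) • Cfsg.fixedPointCharacter
          (Cfsg.parabolicGL n F fun i => ν i + i.val - (κ i).val)
      else 0) := by
  funext g
  simp only [Cfsg.unipotentCharacterGL, Finset.sum_apply]
  refine Finset.sum_congr rfl fun κ _ => ?_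
  split_ifs <;> simp

/-- Orthonormality of the alternating sums. -/
theorem classInner_unipotent [Fintype (GL (Fin n) F)] (ν ν' : Fin n → ℕ) (hmono : Monotone ν)
    (hsum : ∑ i, ν i = n) (hmono' : Monotone ν') (hsum' : ∑ i, ν' i = n) :
    Cfsg.classInner (Cfsg.unipotentCharacterGL n F ν) (Cfsg.unipotentCharacterGL n F ν') =
      if ν = ν' then 1 else 0 := by
  classical
  rw [unipotent_eq_sum, unipotent_eq_sum, CfsgLib.Char.classInner_sum_left]
  simp only [CfsgLib.Char.classInner_sum_right]
  have key := congrArg (fun z : ℤ => (z : ℂ)) ((alternating_margins (fun i : Fin n => ν i + i.val)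
    (fun i : Fin n => ν' i + i.val)).trans
    (alternating_margins_strictMono _ _ (strictMono_shift ν hmono) (strictMono_shift ν' hmono')))
  have hiff : ((fun i : Fin n => ν i + i.val) = fun i : Fin n => ν' i + i.val) ↔ ν = ν' :=
    ⟨fun h => funext fun i => Nat.add_right_cancel (congrFun h i), fun h => h ▸ rfl⟩
  simp only [hiff, Int.cast_sum] at key
  refine Eq.trans ?_ (key.trans (by split_ifs <;> simp))
  refine Finset.sum_congr rfl fun κ _ => Finset.sum_congr rfl fun κ' _ => ?_
  by_cases h1 : ∀ i : Fin n, (κ i).val ≤ ν i + i.val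
  · by_cases h2 : ∀ i : Fin n, (κ' i).val ≤ ν' i + i.val
    · rw [if_pos h1, if_pos h2, if_pos ⟨h1, h2⟩, CfsgLib.Char.classInner_smul_left,
        CfsgLib.Char.classInner_smul_right, classInner_flag _ _ (sum_shift ν hsum κ h1)
          (sum_shift ν' hsum' κ' h2)]
      simp [mul_assoc]
    · rw [if_pos h1, if_neg h2, if_neg (show ¬(_ ∧ _) from fun h => h2 h.2), CfsgLib.Char.classInner_zero_right, Int.cast_zero]
  · rw [if_neg h1, if_neg (show ¬((∀ i : Fin n, (κ i).val ≤ ν i + i.val) ∧ _) from fun h => h1 h.1), CfsgLib.Char.classInner_zero_left, Int.cast_zero]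

theorem isGeneralizedCharacter_unipotent [Finite (GL (Fin n) F)] (ν : Fin n → ℕ) :
    Cfsg.IsGeneralizedCharacter (GL (Fin n) F) (Cfsg.unipotentCharacterGL n F ν) := by
  classical
  rw [unipotent_eq_sum]
  refine CfsgLib.Char.IsGeneralizedCharacter.sum _ _ fun κ _ => ?_
  split_ifs
  · exact CfsgLib.Char.IsGeneralizedCharacter.intCast_smul (CfsgLib.Char.IsCharacter.isGeneralizedCharacter
      (isCharacter_fixedPointCharacter _)) _
  · exact CfsgLib.Char.IsGeneralizedCharacter.zero

end GLn

/-- A generalized character of norm one with positive degree is irreducible. -/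
theorem isIrrCharacter_of_norm_one {G : Type*} [Group G] [Fintype G] {θ : G → ℂ}
    (hθ : Cfsg.IsGeneralizedCharacter G θ) (h1 : Cfsg.classInner θ θ = 1)
    (hpos : ∃ z : ℤ, 0 < z ∧ θ 1 = z) : Cfsg.IsIrrCharacter G θ := by
  classical
  have hcl := CfsgLib.Char.IsGeneralizedCharacter.isClassFunction hθ
  have hc : ∀ φ : Cfsg.IrrCharacter G, ∃ c : ℤ, Cfsg.classInner θ (φ : G → ℂ) = c := by
    intro φ
    obtain ⟨A, B, hA, hB, rfl⟩ := hθ
    obtain ⟨a, ha⟩ := CfsgLib.Char.IsCharacter.exists_nat_classInner hA φ.2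
    obtain ⟨b, hb⟩ := CfsgLib.Char.IsCharacter.exists_nat_classInner hB φ.2
    exact ⟨(a : ℤ) - b, by rw [CfsgLib.Char.classInner_sub_left, ha, hb]; push_cast; rfl⟩
  choose c hc using hc
  have hsq : ∑ φ, c φ * c φ = 1 := by
    have h := CfsgLib.Char.classInner_eq_sum hcl hcl
    rw [h1] at h
    simp only [hc, map_intCast] at h
    exact_mod_cast h.symm
  obtain ⟨φ, hφ⟩ : ∃ φ, c φ ≠ 0 := by
    by_contra hcon
    push Not at hcon
    simp [hcon] at hsq
  have hsplit := Finset.add_sum_erase univ (fun ψ => c ψ * c ψ) (Finset.mem_univ φ)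
  have hnn : 0 ≤ ∑ ψ ∈ univ.erase φ, c ψ * c ψ := Finset.sum_nonneg fun ψ _ => mul_self_nonneg _
  rw [hsq] at hsplit
  have hφpos : 0 < c φ * c φ := mul_self_pos.2 hφ
  have hφsq : c φ * c φ = 1 := by linarith
  have hothers : ∀ ψ, ψ ≠ φ → c ψ = 0 := by
    intro ψ hψ
    have := (Finset.sum_eq_zero_iff_of_nonneg (fun ψ _ => mul_self_nonneg (c ψ))).1
      (show ∑ ψ ∈ univ.erase φ, c ψ * c ψ = 0 by linarith) ψ (by simp [hψ])
    exact mul_self_eq_zero.1 this
  have hθeq : θ = (c φ : ℂ) • (φ : G → ℂ) := by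
    conv_lhs => rw [CfsgLib.Char.IsClassFunction.eq_sum_classInner hcl]
    rw [Finset.sum_eq_single φ (fun ψ _ hψ => by rw [hc, hothers ψ hψ]; simp) (by simp), hc]
  rcases mul_self_eq_one_iff.1 hφsq with h | h
  · rw [hθeq, h]; simpa using φ.2
  · exfalso
    obtain ⟨z, hz, hz1⟩ := hpos
    obtain ⟨d, -, hd⟩ := CfsgLib.Char.IsIrrCharacter.exists_degree φ.2
    rw [hθeq, h, Pi.smul_apply, hd] at hz1
    have : (z : ℤ) = -(d : ℤ) := by
      have h2 : ((z : ℤ) : ℂ) = ((-(d : ℤ) : ℤ) : ℂ) := by rw [← hz1]; push_cast; simp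
      exact_mod_cast h2
    omega

section Degree

/-- The q-integer as an integer. -/
def qInt (q m : ℕ) : ℤ := (∑ l ∈ range m, q ^ l : ℕ)

theorem qInt_add (q a b : ℕ) : qInt q (a + b) = qInt q a + (q : ℤ) ^ a * qInt q b := by
  simp [qInt, Finset.sum_range_add, Finset.mul_sum, pow_add]

theorem qInt_strictMono (q : ℕ) (hq : 0 < q) {a b : ℕ} (h : a < b) : qInt q a < qInt q b := by
  obtain ⟨c, rfl⟩ := Nat.exists_eq_add_of_lt h
  rw [show a + c + 1 = a + (c + 1) by omega, qInt_add]
  have h1 : (0 : ℤ) < qInt q (c + 1) := by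
    unfold qInt
    exact_mod_cast Finset.sum_pos' (fun _ _ => Nat.zero_le _) ⟨0, by simp⟩
  have h2 : (0 : ℤ) < (q : ℤ) ^ a := by positivity
  nlinarith

/-- The falling q-factorial `[m][m-1]⋯[m-k+1]`, which vanishes for `k > m`. -/
def qFall (q m k : ℕ) : ℤ := ∏ t ∈ range k, qInt q (m - t)

theorem qFact_eq_mul_qFall (q m : ℕ) : ∀ k, k ≤ m →
    (qFact q m : ℤ) = (qFact q (m - k) : ℤ) * qFall q m k := by
  intro k
  induction k with
  | zero => intro _; simp [qFall]
  | succ k ih =>
    intro hk
    rw [ih (by omega), qFall, qFall, Finset.prod_range_succ]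
    obtain ⟨r, hr⟩ : ∃ r, m - k = r + 1 := ⟨m - k - 1, by omega⟩
    rw [show m - (k + 1) = r by omega, hr]
    unfold qFact
    rw [Finset.prod_range_succ, Nat.cast_mul, show ((∑ l ∈ range (r + 1), q ^ l : ℕ) : ℤ) = qInt q (r + 1) from rfl]
    ring

theorem qFall_eq_zero (q m k : ℕ) (h : m < k) : qFall q m k = 0 :=
  Finset.prod_eq_zero (Finset.mem_range.2 h) (by simp [qInt])

theorem pow_mul_qFall (q m : ℕ) : ∀ k,
    (q : ℤ) ^ k.choose 2 * qFall q m k = ∏ t ∈ range k, (qInt q m - qInt q t) := by
  intro k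
  induction k with
  | zero => simp [qFall]
  | succ k ih =>
    rw [Finset.prod_range_succ, ← ih, qFall, qFall, Finset.prod_range_succ, choose_two_succ, pow_add]
    rcases Nat.lt_or_ge m k with h | h
    · rw [show ∏ t ∈ range k, qInt q (m - t) = 0 from qFall_eq_zero q m k h]
      ring
    · have : qInt q m - qInt q k = (q : ℤ) ^ k * qInt q (m - k) := by
        rw [sub_eq_iff_eq_add', ← qInt_add, Nat.add_sub_cancel' h]
      rw [this]
      ring

theorem sum_choose_two (n : ℕ) : ∑ j : Fin n, (j.val).choose 2 = n.choose 3 := by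
  induction n with
  | zero => simp
  | succ n ih =>
    rw [Fin.sum_univ_castSucc]
    simp only [Fin.val_castSucc, Fin.val_last, ih]
    rw [Nat.choose_succ_succ' n 2]
    simp only [show (2 + 1) = 3 from rfl]
    omega

theorem choose_three_eq (n : ℕ) : n.choose 3 = n * (n - 1) * (n - 2) / 6 := by
  rw [Nat.choose_eq_descFactorial_div_factorial]
  simp only [Nat.descFactorial, Nat.factorial]
  congr 1
  rw [Nat.sub_zero, mul_one]
  ring

/-- The degree formula over `ℤ`. -/
theorem degree_formula (q : ℕ) (lam : Fin n → ℕ) (I : Equiv.Perm (Fin n) → ℤ)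
    (hI : ∀ κ, (∀ i, (κ i).val ≤ lam i) →
      I κ * ∏ i, (qFact q (lam i - (κ i).val) : ℤ) = qFact q n) :
    (∑ κ : Equiv.Perm (Fin n), if (∀ i, (κ i).val ≤ lam i) then (Equiv.Perm.sign κ : ℤ) * I κ else 0) *
        (q : ℤ) ^ n.choose 3 * ∏ i, (qFact q (lam i) : ℤ) =
      (qFact q n : ℤ) * ∏ i, ∏ j ∈ univ.filter (fun j : Fin n => i < j), (qInt q (lam j) - qInt q (lam i)) := by
  classical
  let P : Fin n → Polynomial ℤ := fun j => ∏ t ∈ range j.val, (Polynomial.X - Polynomial.C (qInt q t))
  have hdeg : ∀ j, (P j).natDegree = j.val := fun j => by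
    simp only [P]
    rw [Polynomial.natDegree_prod_of_monic _ _ (fun t _ => Polynomial.monic_X_sub_C _),
      Finset.sum_congr rfl (fun t _ => Polynomial.natDegree_X_sub_C (qInt q t))]
    simp
  have hmonic : ∀ j, (P j).Monic := fun j =>
    Polynomial.monic_prod_of_monic _ _ (fun t _ => Polynomial.monic_X_sub_C _)
  have hvdm := Matrix.det_eval_matrixOfPolynomials_eq_det_vandermonde (fun i => qInt q (lam i)) P
    hdeg hmonic
  rw [Matrix.det_vandermonde] at hvdm
  have hfilter : ∀ i : Fin n, univ.filter (fun j : Fin n => i < j) = Ioi i := fun i => by ext; simp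
  simp only [hfilter]
  rw [hvdm, ← Matrix.det_transpose, Matrix.det_apply', Finset.sum_mul, Finset.sum_mul, Finset.mul_sum]
  refine Finset.sum_congr rfl fun κ _ => ?_
  simp only [Matrix.transpose_apply, Matrix.of_apply, P, Polynomial.eval_prod, Polynomial.eval_sub,
    Polynomial.eval_X, Polynomial.eval_C, ← pow_mul_qFall, Finset.prod_mul_distrib,
    Finset.prod_pow_eq_pow_sum, Equiv.sum_comp κ (fun j : Fin n => (j.val).choose 2), sum_choose_two]
  by_cases h : ∀ i, (κ i).val ≤ lam i
  · rw [if_pos h, ← hI κ h, Finset.prod_congr rfl (fun i _ => qFact_eq_mul_qFall q (lam i) _ (h i)),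
      Finset.prod_mul_distrib, Int.cast_id]
    ring
  · rw [if_neg h]
    push Not at h
    obtain ⟨i, hi⟩ := h
    rw [Finset.prod_eq_zero (f := fun i => qFall q (lam i) (κ i).val) (mem_univ i) (qFall_eq_zero q _ _ hi)]
    ring

variable {F : Type*} [Field F] [Fintype F]

/-- The degree of `unipotentCharacterGL`. -/
theorem unipotent_degree (ν : Fin n → ℕ) (hsum : ∑ i, ν i = n) :
    ∃ z : ℤ, Cfsg.unipotentCharacterGL n F ν 1 = z ∧
      z * (Fintype.card F : ℤ) ^ n.choose 3 * ∏ i : Fin n, (qFact (Fintype.card F) (ν i + i.val) : ℤ) =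
      (qFact (Fintype.card F) n : ℤ) * ∏ i : Fin n, ∏ j ∈ univ.filter (fun j : Fin n => i < j),
        (qInt (Fintype.card F) (ν j + j.val) - qInt (Fintype.card F) (ν i + i.val)) := by
  classical
  refine ⟨∑ κ : Equiv.Perm (Fin n), if (∀ i : Fin n, (κ i).val ≤ ν i + i.val) then
      (Equiv.Perm.sign κ : ℤ) *
        (Nat.card (GL (Fin n) F ⧸ Cfsg.parabolicGL n F fun i => ν i + i.val - (κ i).val) : ℤ) else 0,
    ?_, degree_formula _ _ _ fun κ h => ?_⟩
  · simp only [Cfsg.unipotentCharacterGL, Int.cast_sum, fixedPointCharacter_one]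
    refine Finset.sum_congr rfl fun κ _ => ?_
    split_ifs <;> simp
  · exact_mod_cast index_parabolic _ (sum_shift ν hsum κ h)

theorem unipotent_degree_pos (ν : Fin n → ℕ) (hmono : Monotone ν) (hsum : ∑ i, ν i = n) :
    ∃ z : ℤ, 0 < z ∧ Cfsg.unipotentCharacterGL n F ν 1 = z := by
  obtain ⟨z, hz, h⟩ := unipotent_degree (F := F) ν hsum
  refine ⟨z, ?_, hz⟩
  have hq : 0 < Fintype.card F := Fintype.card_pos
  have hA : 0 < (Fintype.card F : ℤ) ^ n.choose 3 * ∏ i : Fin n, (qFact (Fintype.card F) (ν i + i.val) : ℤ) :=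
    mul_pos (by positivity) (Finset.prod_pos fun i _ => by exact_mod_cast qFact_pos _ _)
  have hB : 0 < (qFact (Fintype.card F) n : ℤ) * ∏ i : Fin n, ∏ j ∈ univ.filter (fun j : Fin n => i < j),
      (qInt (Fintype.card F) (ν j + j.val) - qInt (Fintype.card F) (ν i + i.val)) :=
    mul_pos (by exact_mod_cast qFact_pos _ _) (Finset.prod_pos fun i _ => Finset.prod_pos fun j hj =>
      sub_pos.2 (qInt_strictMono _ hq (strictMono_shift ν hmono (Finset.mem_filter.1 hj).2)))
  rw [mul_assoc] at h
  exact pos_of_mul_pos_left (h ▸ hB) hA.le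

end Degree

/-- Irreducibility. -/
theorem isIrrCharacter_unipotent {F : Type*} [Field F] [Fintype F] (ν : Fin n → ℕ) (hmono : Monotone ν)
    (hsum : ∑ i, ν i = n) : Cfsg.IsIrrCharacter (GL (Fin n) F) (Cfsg.unipotentCharacterGL n F ν) := by
  classical
  refine isIrrCharacter_of_norm_one (isGeneralizedCharacter_unipotent ν) ?_
    (unipotent_degree_pos ν hmono hsum)
  rw [classInner_unipotent ν ν hmono hsum hmono hsum, if_pos rfl]

/-- Distinctness. -/
theorem unipotent_injective {F : Type*} [Field F] [Fintype F] (ν ν' : Fin n → ℕ) (hmono : Monotone ν)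
    (hsum : ∑ i, ν i = n) (hmono' : Monotone ν') (hsum' : ∑ i, ν' i = n)
    (h : Cfsg.unipotentCharacterGL n F ν = Cfsg.unipotentCharacterGL n F ν') : ν = ν' := by
  classical
  by_contra hne
  have h1 := classInner_unipotent (F := F) ν ν hmono hsum hmono hsum
  have h2 := classInner_unipotent (F := F) ν ν' hmono hsum hmono' hsum'
  rw [← h, h1, if_pos rfl, if_neg hne] at h2
  exact one_ne_zero h2

end CfsgLib.GLFlags
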