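import Cfsg.Agent.Lib.GLFlags.Label
import Mathlib.LinearAlgebra.Matrix.Permutation
import Mathlib.LinearAlgebra.Matrix.NonsingularInverse
import Mathlib.GroupTheory.GroupAction.Quotient

/-! Bruhat decomposition of `GL n` and double cosets of parabolic subgroups. -/

namespace CfsgLib.GLFlags

open Matrix Finset

variable {n : ℕ} {F : Type*} [Field F]

/-- Permutations as matrices, as a monoid hom (`σ` sends `e_j` to `e_(σ j)`). -/
def permHom (n : ℕ) (F : Type*) [Field F] : Equiv.Perm (Fin n) →* Matrix (Fin n) (Fin n) F where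
  toFun σ := Equiv.Perm.permMatrix F σ⁻¹
  map_one' := by simp
  map_mul' σ τ := by simp [Matrix.permMatrix_mul]

/-- Permutation matrices in `GL`. -/
noncomputable def permGL (n : ℕ) (F : Type*) [Field F] : Equiv.Perm (Fin n) →* GL (Fin n) F :=
  (permHom n F).toHomUnits

theorem permGL_apply (σ : Equiv.Perm (Fin n)) (i j : Fin n) :
    (permGL n F σ : Matrix (Fin n) (Fin n) F) i j = if σ j = i then 1 else 0 := by
  show Equiv.Perm.permMatrix F σ⁻¹ i j = _
  simp [Equiv.Perm.permMatrix, PEquiv.toMatrix_apply, Equiv.toPEquiv_apply]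
  congr 1
  exact propext (by rw [Equiv.symm_apply_eq, eq_comm])

theorem mul_permGL (A : Matrix (Fin n) (Fin n) F) (σ : Equiv.Perm (Fin n)) (i j : Fin n) :
    (A * (permGL n F σ : Matrix (Fin n) (Fin n) F)) i j = A i (σ j) := by
  simp [Matrix.mul_apply, permGL_apply]

theorem permGL_mul (A : Matrix (Fin n) (Fin n) F) (σ : Equiv.Perm (Fin n)) (i j : Fin n) :
    ((permGL n F σ : Matrix (Fin n) (Fin n) F) * A) i j = A (σ⁻¹ i) j := by
  simp [Matrix.mul_apply, permGL_apply, ← Equiv.eq_symm_apply]

/-- An invertible block upper triangular matrix has non-zero entries along a block-preserving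
permutation. -/
theorem exists_perm_support {β : Type*} [LinearOrder β] (b : Fin n → β)
    (P : Matrix (Fin n) (Fin n) F) (hdet : P.det ≠ 0) (hP : P.BlockTriangular b) :
    ∃ π : Equiv.Perm (Fin n), (∀ k, P (π k) k ≠ 0) ∧ ∀ k, b (π k) = b k := by
  obtain ⟨π, hπ⟩ : ∃ π : Equiv.Perm (Fin n), ∀ k, P (π k) k ≠ 0 := by
    by_contra hc
    push Not at hc
    apply hdet
    rw [Matrix.det_apply]
    refine Finset.sum_eq_zero (fun π _ => ?_)
    obtain ⟨k, hk⟩ := hc π
    rw [Finset.prod_eq_zero (f := fun i => P (π i) i) (Finset.mem_univ k) hk, smul_zero]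
  have hle : ∀ k, b (π k) ≤ b k := fun k => not_lt.1 fun h => hπ k (hP h)
  refine ⟨π, hπ, fun k => ?_⟩
  by_contra hne
  -- sets below `b k` are invariant, so counting shows equality
  have hmaps : ∀ x, b x ≤ b (π k) → b (π x) ≤ b (π k) := fun x hx => (hle x).trans hx
  have himg : (univ.filter fun x => b x ≤ b (π k)).image π = univ.filter fun x => b x ≤ b (π k) := by
    apply Finset.eq_of_subset_of_card_le
    · intro y hy
      simp only [mem_image, mem_filter, mem_univ, true_and] at hy ⊢
      obtain ⟨x, hx, rfl⟩ := hy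
      exact hmaps x hx
    · rw [Finset.card_image_of_injective _ π.injective]
  have : π k ∈ (univ.filter fun x => b x ≤ b (π k)).image π := by
    rw [himg]; simp
  simp only [mem_image, mem_filter, mem_univ, true_and] at this
  obtain ⟨x, hx, hxk⟩ := this
  rw [π.injective hxk] at hx
  exact hne (le_antisymm (hle k) hx)

/-- Uniqueness in the Bruhat decomposition relative to two parabolic subgroups. -/
theorem exists_perm_of_double {β γ : Type*} [LinearOrder β] [LinearOrder γ] (a : Fin n → β)
    (c : Fin n → γ) (P Q : GL (Fin n) F) (w w' : Equiv.Perm (Fin n))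
    (hP : (P : Matrix (Fin n) (Fin n) F).BlockTriangular a)
    (hQ : (Q : Matrix (Fin n) (Fin n) F).BlockTriangular c)
    (h : P * permGL n F w = permGL n F w' * Q) :
    ∃ s t : Equiv.Perm (Fin n), (∀ i, a (s i) = a i) ∧ (∀ i, c (t i) = c i) ∧ w' = s * w * t := by
  have hentry : ∀ i j, (P : Matrix (Fin n) (Fin n) F) i (w j) =
      (Q : Matrix (Fin n) (Fin n) F) (w'⁻¹ i) j := by
    intro i j
    have := congrFun (congrFun (congrArg (fun M : GL (Fin n) F => (M : Matrix (Fin n) (Fin n) F)) h) i) j
    simpa [mul_permGL, permGL_mul] using this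
  obtain ⟨π, hπ, hπa⟩ := exists_perm_support a _
    (by simpa using (Matrix.GeneralLinearGroup.det P).ne_zero) hP
  set ρ := w'⁻¹ * π * w with hρ
  have hle : ∀ j, c (ρ j) ≤ c j := by
    intro j
    refine not_lt.1 fun hlt => hπ (w j) ?_
    rw [hentry]
    exact hQ hlt
  -- a decreasing permutation preserves the labels
  have heq : ∀ j, c (ρ j) = c j := by
    intro k
    by_contra hne
    have himg : (univ.filter fun x => c x ≤ c (ρ k)).image ρ = univ.filter fun x => c x ≤ c (ρ k) := by
      apply Finset.eq_of_subset_of_card_le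
      · intro y hy
        simp only [mem_image, mem_filter, mem_univ, true_and] at hy ⊢
        obtain ⟨x, hx, rfl⟩ := hy
        exact (hle x).trans hx
      · rw [Finset.card_image_of_injective _ ρ.injective]
    have : ρ k ∈ (univ.filter fun x => c x ≤ c (ρ k)).image ρ := by
      rw [himg]; simp
    simp only [mem_image, mem_filter, mem_univ, true_and] at this
    obtain ⟨x, hx, hxk⟩ := this
    rw [ρ.injective hxk] at hx
    exact hne (le_antisymm (hle k) hx)
  refine ⟨π, ρ⁻¹, hπa, fun i => ?_, by rw [hρ]; group⟩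
  conv_rhs => rw [← show ρ (ρ⁻¹ i) = i from ρ.apply_symm_apply i]
  exact (heq _).symm

/-- Bruhat decomposition: every invertible matrix is `B w B`. -/
theorem exists_bruhat (g : GL (Fin n) F) :
    ∃ (p q : GL (Fin n) F) (w : Equiv.Perm (Fin n)),
      (p : Matrix (Fin n) (Fin n) F).BlockTriangular id ∧
      (q : Matrix (Fin n) (Fin n) F).BlockTriangular id ∧ g = p * permGL n F w * q := by
  classical
  let G : Matrix (Fin n) (Fin n) F := g
  -- vectors allowed in column `j`
  let U : Fin n → (Fin n → F) → Prop := fun j u => u j = 1 ∧ ∀ i, j < i → u i = 0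
  -- `lead v` bounds the support of `v`
  let Bd : (Fin n → F) → ℕ → Prop := fun v m => ∀ i : Fin n, m ≤ i.val → v i = 0
  have hex : ∀ j, ∃ m, ∃ u, U j u ∧ Bd (G *ᵥ u) m := fun j =>
    ⟨n, Pi.single j 1, ⟨by simp, fun i hi => by simp [hi.ne']⟩, fun i hi => absurd i.2 (by omega)⟩
  have hspec := fun j => Nat.find_spec (hex j)
  choose u hu hBd using hspec
  have hv0 : ∀ j (x : Fin n → F), U j x → G *ᵥ x ≠ 0 := by
    intro j x hx h0
    have hxz : x = 0 := by
      have := congrArg (fun v => ((g⁻¹ : GL (Fin n) F) : Matrix (Fin n) (Fin n) F) *ᵥ v) h0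
      simp only [Matrix.mulVec_mulVec, Matrix.mulVec_zero] at this
      rwa [show ((g⁻¹ : GL (Fin n) F) : Matrix (Fin n) (Fin n) F) * G = 1 from Units.inv_mul g,
        Matrix.one_mulVec] at this
    have := hx.1
    rw [hxz] at this
    exact zero_ne_one this
  have hpos : ∀ j, 0 < Nat.find (hex j) ∧ Nat.find (hex j) ≤ n := by
    intro j
    refine ⟨?_, Nat.find_min' (hex j) ⟨Pi.single j 1, ⟨by simp, fun i hi => by simp [hi.ne']⟩,
      fun i hi => absurd i.2 (by omega)⟩⟩
    by_contra h0
    exact hv0 j _ (hu j) (funext fun i => hBd j i (by omega))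
  let wf : Fin n → Fin n := fun j => ⟨Nat.find (hex j) - 1, by have := hpos j; omega⟩
  have hlead : ∀ j, (G *ᵥ u j) (wf j) ≠ 0 := by
    intro j h0
    refine Nat.find_min (hex j) (m := Nat.find (hex j) - 1) (by have := hpos j; omega) ⟨u j, hu j, ?_⟩
    intro i hi
    rcases eq_or_lt_of_le hi with he | he
    · rwa [show i = wf j from Fin.ext he.symm]
    · exact hBd j i (by omega)
  have hinj : Function.Injective wf := by
    have key : ∀ j k, j < k → wf j ≠ wf k := by
      intro j k hjk he
      refine Nat.find_min (hex k) (m := Nat.find (hex k) - 1) (by have := hpos k; omega)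
        ⟨u k - ((G *ᵥ u k) (wf k) / (G *ᵥ u j) (wf j)) • u j, ⟨?_, ?_⟩, ?_⟩
      · simp [(hu j).2 k hjk, (hu k).1]
      · intro i hi
        simp [(hu j).2 i (hjk.trans hi), (hu k).2 i hi]
      · intro i hi
        simp only [Matrix.mulVec_sub, Matrix.mulVec_smul, Pi.sub_apply, Pi.smul_apply, smul_eq_mul]
        have he' : Nat.find (hex j) - 1 = Nat.find (hex k) - 1 := congrArg Fin.val he
        rcases eq_or_lt_of_le hi with h1 | h1
        · rw [show i = wf k from Fin.ext h1.symm, ← he,
            div_mul_cancel₀ _ (hlead j), sub_self]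
        · rw [hBd k i (by omega), hBd j i (by have := hpos j; have := hpos k; omega), mul_zero,
            sub_zero]
    intro j k he
    rcases lt_trichotomy j k with h | h | h
    · exact absurd he (key j k h)
    · exact h
    · exact absurd he.symm (key k j h)
  let w : Equiv.Perm (Fin n) := Equiv.ofBijective wf ⟨hinj, Finite.surjective_of_injective hinj⟩
  let Q : Matrix (Fin n) (Fin n) F := Matrix.of fun i j => u j i
  have hQ : Q.BlockTriangular id := fun i j hij => (hu j).2 i hij
  have hQdet : Q.det ≠ 0 := by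
    rw [Matrix.det_of_isUpperTriangular hQ,
      Finset.prod_eq_one (f := fun i => Q i i) (fun i _ => (hu i).1)]
    exact one_ne_zero
  let q : GL (Fin n) F := Matrix.GeneralLinearGroup.mkOfDetNeZero Q hQdet
  refine ⟨g * q * (permGL n F w)⁻¹, q⁻¹, w, ?_, ?_, by group⟩
  · intro i k hik
    show ((g * q * (permGL n F w)⁻¹ : GL (Fin n) F) : Matrix (Fin n) (Fin n) F) i k = 0
    rw [← map_inv, Units.val_mul, mul_permGL, Units.val_mul]
    have hwk : wf (w⁻¹ k) = k := w.apply_symm_apply k
    have : ((g : Matrix (Fin n) (Fin n) F) * Q) i (w⁻¹ k) = (G *ᵥ u (w⁻¹ k)) i := by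
      simp [Matrix.mul_apply, Matrix.mulVec, dotProduct, Q, G]
    show ((g : Matrix (Fin n) (Fin n) F) * Q) i (w⁻¹ k) = 0
    rw [this]
    apply hBd
    have h1 := congrArg Fin.val hwk
    simp only [wf] at h1
    have : k.val < i.val := hik
    omega
  · have : Invertible (q : Matrix (Fin n) (Fin n) F) := q.invertible
    show ((q⁻¹ : GL (Fin n) F) : Matrix (Fin n) (Fin n) F).BlockTriangular id
    rw [Matrix.coe_units_inv]
    exact Matrix.blockTriangular_inv_of_blockTriangular hQ

theorem blockTriangular_of_id {β : Type*} [Preorder β] {b : Fin n → β} (hb : Monotone b)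
    {M : Matrix (Fin n) (Fin n) F} (hM : M.BlockTriangular id) : M.BlockTriangular b :=
  fun i j hij => hM (lt_of_not_ge fun hle => (hb hle).not_gt hij)

theorem permGL_mem_parabolic {μ : Fin n → ℕ} {σ : Equiv.Perm (Fin n)}
    (h : σ ∈ Cfsg.youngSubgroup μ) : permGL n F σ ∈ Cfsg.parabolicGL n F μ := by
  intro i j hij
  rw [permGL_apply, if_neg]
  intro he
  rw [← he, h j] at hij
  exact lt_irrefl _ hij

/-- Orbits on pairs of cosets are transported along a map satisfying existence and uniqueness of
double coset representatives. -/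
theorem card_orbits_eq {H G : Type*} [Group H] [Group G] (f : H →* G) (A C : Subgroup H)
    (P Q : Subgroup G) (hA : ∀ a ∈ A, f a ∈ P) (hC : ∀ c ∈ C, f c ∈ Q)
    (hex : ∀ g : G, ∃ p ∈ P, ∃ q ∈ Q, ∃ w : H, g = p * f w * q)
    (huniq : ∀ w w' : H, ∀ p ∈ P, ∀ q ∈ Q, p * f w = f w' * q → ∃ a ∈ A, ∃ c ∈ C, w' = a * w * c) :
    Nat.card (MulAction.orbitRel.Quotient H ((H ⧸ A) × (H ⧸ C))) =
      Nat.card (MulAction.orbitRel.Quotient G ((G ⧸ P) × (G ⧸ Q))) := by
  let fA : H ⧸ A → G ⧸ P := Quotient.map' f (fun x y hxy => by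
    rw [QuotientGroup.leftRel_apply] at hxy ⊢
    simpa using hA _ hxy)
  let fC : H ⧸ C → G ⧸ Q := Quotient.map' f (fun x y hxy => by
    rw [QuotientGroup.leftRel_apply] at hxy ⊢
    simpa using hC _ hxy)
  have fA_smul : ∀ (h : H) (x : H ⧸ A), fA (h • x) = f h • fA x := by
    intro h x
    induction x using QuotientGroup.induction_on with
    | H y => exact congrArg QuotientGroup.mk (map_mul f h y)
  have fC_smul : ∀ (h : H) (x : H ⧸ C), fC (h • x) = f h • fC x := by
    intro h x
    induction x using QuotientGroup.induction_on with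
    | H y => exact congrArg QuotientGroup.mk (map_mul f h y)
  let Φ : MulAction.orbitRel.Quotient H ((H ⧸ A) × (H ⧸ C)) →
      MulAction.orbitRel.Quotient G ((G ⧸ P) × (G ⧸ Q)) :=
    Quotient.map' (Prod.map fA fC) (fun x y hxy => by
      rw [MulAction.orbitRel_apply] at hxy ⊢
      obtain ⟨h, rfl⟩ := hxy
      exact ⟨f h, by simp [Prod.smul_def, fA_smul, fC_smul]⟩)
  refine Nat.card_eq_of_bijective Φ ⟨?_, ?_⟩
  · have norm : ∀ z : (H ⧸ A) × (H ⧸ C), ∃ w : H, MulAction.orbitRel H _ z
        ((QuotientGroup.mk 1 : H ⧸ A), (QuotientGroup.mk w : H ⧸ C)) := by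
      rintro ⟨x, y⟩
      induction x using QuotientGroup.induction_on with
      | H s =>
        induction y using QuotientGroup.induction_on with
        | H t =>
          refine ⟨s⁻¹ * t, ?_⟩
          rw [MulAction.orbitRel_apply]
          exact ⟨s, by simp [Prod.smul_def, MulAction.Quotient.smul_mk]⟩
    intro X Y hXY
    induction X using Quotient.inductionOn' with
    | h x =>
      induction Y using Quotient.inductionOn' with
      | h y =>
        obtain ⟨w, hw⟩ := norm x
        obtain ⟨w', hw'⟩ := norm y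
        rw [Quotient.sound' hw, Quotient.sound' hw'] at hXY ⊢
        have h1 := Quotient.exact' hXY
        rw [MulAction.orbitRel_apply] at h1
        obtain ⟨g, hg⟩ := h1
        have hg1 : g • (QuotientGroup.mk (f 1) : G ⧸ P) = QuotientGroup.mk (f 1) := congrArg Prod.fst hg
        have hg2 : g • (QuotientGroup.mk (f w') : G ⧸ Q) = QuotientGroup.mk (f w) := congrArg Prod.snd hg
        rw [map_one] at hg1
        have hgP : g ∈ P := by
          rw [MulAction.Quotient.smul_mk, smul_eq_mul, mul_one, QuotientGroup.eq, mul_one] at hg1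
          simpa using P.inv_mem hg1
        rw [MulAction.Quotient.smul_mk, smul_eq_mul, QuotientGroup.eq] at hg2
        have hq : (f w)⁻¹ * (g * f w') ∈ Q := by
          have := Q.inv_mem hg2
          simpa [mul_assoc] using this
        obtain ⟨a, ha, c, hc, hac⟩ := huniq w' w g hgP _ hq (by group)
        apply Quotient.sound'
        rw [MulAction.orbitRel_apply]
        refine ⟨a, ?_⟩
        rw [hac]
        refine Prod.ext ?_ ?_
        · show (QuotientGroup.mk (a * 1) : H ⧸ A) = QuotientGroup.mk 1
          rw [QuotientGroup.eq]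
          simpa using A.inv_mem ha
        · show (QuotientGroup.mk (a * w') : H ⧸ C) = QuotientGroup.mk (a * w' * c)
          rw [QuotientGroup.eq]
          simpa [mul_assoc] using hc
  · intro Y
    induction Y using Quotient.inductionOn' with
    | h y =>
      obtain ⟨x, z⟩ := y
      induction x using QuotientGroup.induction_on with
      | H s =>
        induction z using QuotientGroup.induction_on with
        | H t =>
          obtain ⟨p, hp, q, hq, w, hw⟩ := hex (s⁻¹ * t)
          refine ⟨Quotient.mk'' ((QuotientGroup.mk 1 : H ⧸ A), (QuotientGroup.mk w : H ⧸ C)), ?_⟩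
          apply Quotient.sound'
          rw [MulAction.orbitRel_apply]
          refine ⟨(s * p)⁻¹, ?_⟩
          refine Prod.ext ?_ ?_
          · show (QuotientGroup.mk ((s * p)⁻¹ * s) : G ⧸ P) = QuotientGroup.mk (f 1)
            rw [QuotientGroup.eq, map_one, mul_one]
            simpa [mul_assoc] using hp
          · show (QuotientGroup.mk ((s * p)⁻¹ * t) : G ⧸ Q) = QuotientGroup.mk (f w)
            rw [QuotientGroup.eq, show t = s * (s⁻¹ * t) by group, hw]
            have := Q.inv_mem hq
            simpa [mul_assoc] using this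

/-- Orbits on pairs of partial flags match orbits on pairs of Young cosets. -/
theorem card_flag_orbits (μ ν : Fin n → ℕ) :
    Nat.card (MulAction.orbitRel.Quotient (Equiv.Perm (Fin n))
        ((Equiv.Perm (Fin n) ⧸ Cfsg.youngSubgroup μ) × (Equiv.Perm (Fin n) ⧸ Cfsg.youngSubgroup ν))) =
      Nat.card (MulAction.orbitRel.Quotient (GL (Fin n) F)
        ((GL (Fin n) F ⧸ Cfsg.parabolicGL n F μ) × (GL (Fin n) F ⧸ Cfsg.parabolicGL n F ν))) := by
  refine card_orbits_eq (permGL n F) _ _ _ _ (fun a ha => permGL_mem_parabolic ha)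
    (fun c hc => permGL_mem_parabolic hc) ?_ ?_
  · intro g
    obtain ⟨p, q, w, hp, hq, hg⟩ := exists_bruhat g
    exact ⟨p, blockTriangular_of_id (compLabel_mono μ) hp, q,
      blockTriangular_of_id (compLabel_mono ν) hq, w, hg⟩
  · intro w w' p hp q hq h
    obtain ⟨s, t, hs, ht, hst⟩ := exists_perm_of_double _ _ p q w w' hp hq h
    exact ⟨s, hs, t, ht, hst⟩

end CfsgLib.GLFlags
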