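import Cfsg.Prelude.Def_LinearParabolics
import Mathlib.Algebra.BigOperators.Fin
import Mathlib.Data.Fintype.Fin

/-! Block labels of compositions. -/

namespace CfsgLib.GLFlags

open Finset

variable {n : ℕ}

/-- Sum of the parts of `μ` with index `< m`. -/
def partialSum (μ : Fin n → ℕ) (m : ℕ) : ℕ :=
  ∑ k ∈ univ.filter (fun k : Fin n => k.val < m), μ k

theorem partialSum_mono (μ : Fin n → ℕ) {a b : ℕ} (h : a ≤ b) : partialSum μ a ≤ partialSum μ b := by
  apply Finset.sum_le_sum_of_subset
  intro k hk
  simp only [mem_filter, mem_univ, true_and] at hk ⊢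
  omega

theorem partialSum_top (μ : Fin n → ℕ) {m : ℕ} (h : n ≤ m) : partialSum μ m = ∑ k, μ k := by
  apply Finset.sum_congr ?_ (fun _ _ => rfl)
  ext k
  simp
  omega

theorem partialSum_succ (μ : Fin n → ℕ) (j : Fin n) :
    partialSum μ (j.val + 1) = partialSum μ j.val + μ j := by
  have : univ.filter (fun k : Fin n => k.val < j.val + 1) =
      insert j (univ.filter fun k : Fin n => k.val < j.val) := by
    ext k; simp [Fin.ext_iff]; omega
  rw [partialSum, this, Finset.sum_insert (by simp), add_comm, partialSum]

theorem sum_filter_le_eq (μ : Fin n → ℕ) (j : Fin n) :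
    (∑ k ∈ univ.filter (fun k : Fin n => k ≤ j), μ k) = partialSum μ (j.val + 1) := by
  apply Finset.sum_congr ?_ (fun _ _ => rfl)
  ext k
  simp only [Finset.mem_filter, Finset.mem_univ, true_and, Fin.le_def]
  omega

theorem compLabel_lt_iff (μ : Fin n → ℕ) (i : Fin n) {m : ℕ} (hm : m ≤ n) :
    Cfsg.compLabel μ i < m ↔ i.val < partialSum μ m := by
  have hdef : Cfsg.compLabel μ i =
      (univ.filter fun j : Fin n => partialSum μ (j.val + 1) ≤ i.val).card := by
    unfold Cfsg.compLabel
    congr 1
    apply Finset.filter_congr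
    intro j _
    rw [sum_filter_le_eq]
  rw [hdef]
  constructor
  · intro h
    by_contra hlt
    rw [not_lt] at hlt
    have hsub : (univ.filter fun j : Fin n => j.val < m) ⊆
        univ.filter fun j : Fin n => partialSum μ (j.val + 1) ≤ i.val := by
      intro j hj
      simp only [mem_filter, mem_univ, true_and] at hj ⊢
      exact le_trans (partialSum_mono μ (by omega)) hlt
    have := Finset.card_le_card hsub
    rw [Fin.card_filter_val_lt] at this
    omega
  · intro h
    have hm0 : 0 < m := by
      by_contra h0
      have : partialSum μ m = 0 := by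
        apply Finset.sum_eq_zero
        intro k hk
        simp at hk
        omega
      omega
    have hsub : (univ.filter fun j : Fin n => partialSum μ (j.val + 1) ≤ i.val) ⊆
        univ.filter fun j : Fin n => j.val < m - 1 := by
      intro j hj
      simp only [mem_filter, mem_univ, true_and] at hj ⊢
      by_contra hle
      have := partialSum_mono μ (show m ≤ j.val + 1 by omega)
      omega
    have := Finset.card_le_card hsub
    rw [Fin.card_filter_val_lt] at this
    omega

theorem compLabel_mono (μ : Fin n → ℕ) : Monotone (Cfsg.compLabel μ) := by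
  intro a b h
  apply Finset.card_le_card
  intro j hj
  simp only [mem_filter, mem_univ, true_and] at hj ⊢
  exact le_trans hj h

/-- The block label as an element of `Fin n`. -/
def lab (μ : Fin n → ℕ) (hμ : ∑ i, μ i = n) (i : Fin n) : Fin n :=
  ⟨Cfsg.compLabel μ i, (compLabel_lt_iff μ i le_rfl).2 (by rw [partialSum_top μ le_rfl, hμ]; exact i.2)⟩

theorem lab_mono (μ : Fin n → ℕ) (hμ : ∑ i, μ i = n) : Monotone (lab μ hμ) :=
  fun _ _ h => compLabel_mono μ h

theorem lab_eq_iff (μ : Fin n → ℕ) (hμ : ∑ i, μ i = n) (i j : Fin n) :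
    lab μ hμ i = lab μ hμ j ↔ Cfsg.compLabel μ i = Cfsg.compLabel μ j := by
  simp [lab, Fin.ext_iff]

theorem card_lab_eq (μ : Fin n → ℕ) (hμ : ∑ i, μ i = n) (k : Fin n) :
    (univ.filter fun i => lab μ hμ i = k).card = μ k := by
  have hcard : ∀ m, m ≤ n → (univ.filter fun i => (lab μ hμ i).val < m).card = partialSum μ m := by
    intro m hm
    have : (univ.filter fun i => (lab μ hμ i).val < m) =
        univ.filter fun i : Fin n => i.val < partialSum μ m := by
      apply Finset.filter_congr
      intro i _
      exact compLabel_lt_iff μ i hm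
    rw [this, Fin.card_filter_val_lt]
    have := partialSum_mono μ hm
    rw [partialSum_top μ le_rfl, hμ] at this
    omega
  have hsplit : (univ.filter fun i => (lab μ hμ i).val < k.val + 1) =
      (univ.filter fun i => (lab μ hμ i).val < k.val) ∪ (univ.filter fun i => lab μ hμ i = k) := by
    ext i; simp [Fin.ext_iff]; omega
  have h1 := hcard (k.val + 1) k.2
  rw [hsplit, Finset.card_union_of_disjoint, hcard k.val k.2.le, partialSum_succ] at h1
  · omega
  · rw [Finset.disjoint_filter]
    intro i _ h1 h2
    rw [h2] at h1
    omega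

end CfsgLib.GLFlags
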